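import Groth.Agent.Lib.GeomComp6.Locus
import Groth.Agent.Lib.FibreDim6.Scheme
import Groth.Agent.Lib.EulerConst10.Main
import Groth.Agent.Lib.EulerConst10.BaseChange
import Groth.Agent.Lib.CurveMult.BaseChangeH
import Groth.Agent.Lib.CurveRR.Setup
import Groth.Agent.Lib.Euler.Rank
import Groth.Agent.Lib.Euler.Section
import Groth.Agent.Lib.FibreBC.Basic
import Groth.Agent.Lib.Seesaw26.Functions
import Groth.Agent.Lib.FlatFP.Kernel
import Groth.Prelude.Def_CurvBase

/-!
# The locus where the fibres of a smooth proper morphism are curves of genus `g`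
-/

set_option autoImplicit false
set_option linter.all false
set_option backward.isDefEq.respectTransparency false

universe u

open CategoryTheory CategoryTheory.Limits AlgebraicGeometry TopologicalSpace

noncomputable section

namespace GrothLib.CurveModel9

variable {X S : Scheme.{u}}

/-- Geometrically connected fibres of dimension one and genus `g`. -/
def IsCurveFibre (f : X ⟶ S) (g : ℕ) (s : S) : Prop :=
  GeometricallyConnected (f.fiberToSpecResidueField s) ∧ topologicalKrullDim ↥(f.fiber s) = 1 ∧
    @Curv2.genus (S.residueField s) _ (f.fiber s) ⟨f.fiberToSpecResidueField s⟩ = g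

theorem h0_eq_one (k : Type u) [Field k] {C : Scheme.{u}}
    [C.Over (Spec (CommRingCat.of k))] [IsProper (C ↘ Spec (CommRingCat.of k))]
    [Smooth (C ↘ Spec (CommRingCat.of k))] [GeometricallyConnected (C ↘ Spec (CommRingCat.of k))] :
    Module.finrank k (Coh.HH C (Coh.structureModule C) 0) = 1 := by
  let p := C ↘ Spec (CommRingCat.of k)
  let K := AlgebraicClosure k
  let φ : k →+* K := algebraMap k K
  let X' := pullback p (Spec.map (CommRingCat.ofHom φ))
  let g : X' ⟶ C := pullback.fst _ _
  letI : X'.Over (Spec (CommRingCat.of K)) := ⟨pullback.snd p (Spec.map (CommRingCat.ofHom φ))⟩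
  haveI : GeometricallyConnected (pullback.snd p (Spec.map (CommRingCat.ofHom φ))) :=
    MorphismProperty.pullback_snd _ _ inferInstance
  haveI : Smooth (X' ↘ Spec (CommRingCat.of K)) :=
    inferInstanceAs (Smooth (pullback.snd p (Spec.map (CommRingCat.ofHom φ))))
  haveI : IsProper (X' ↘ Spec (CommRingCat.of K)) :=
    inferInstanceAs (IsProper (pullback.snd p (Spec.map (CommRingCat.ofHom φ))))
  haveI : ConnectedSpace X' :=
    GeometricallyConnected.connectedSpace_of_subsingleton (pullback.snd p (Spec.map (CommRingCat.ofHom φ)))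
  haveI := Euler.isIntegral_of_smooth_connected K (X' ↘ Spec (CommRingCat.of K))
  rw [← CurveMult.finrank_HH_structure_baseChange φ g (IsPullback.of_hasPullback p (Spec.map (CommRingCat.ofHom φ))) 0,
    CurveRR.finrank_H0_structure_eq_one K]

theorem isFP_structure (X : Scheme.{u}) : CohB1.IsFP (Coh.structureModule X) :=
  haveI : (Coh.structureModule X).IsQuasicoherent := WeakAss.isQuasicoherent_structureModule
  FlatFP.isFP_of_sections _ (fun U : X.affineOpens => U.1) (iSup_affineOpens_eq_top X) (fun U => U.2) fun U =>
    inferInstanceAs (Module.FinitePresentation Γ(X, U.1) Γ(X, U.1))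

theorem geometricallyConnected_fiber_iff_count (f : X ⟶ S) (s : S) :
    GeometricallyConnected (f.fiberToSpecResidueField s) ↔ (GeomComp6.geomCount f s).2 = 1 := by
  rw [GeomComp6.geometricallyConnected_iff_count]
  have key : ∀ y : Spec (S.residueField s),
      MoreMor.nGeomConnComp (f.fiberToSpecResidueField s) y = (GeomComp6.geomCount f s).2 := fun y => by
    have h := GeomComp6.count_baseChange f (f.fiberToSpecResidueField s) (f.fiberι s) (S.fromSpecResidueField s)
      (IsPullback.of_hasPullback _ _) y
    rw [Scheme.fromSpecResidueField_apply] at h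
    exact congrArg Prod.snd h
  exact ⟨fun h => (key _).symm.trans (h (default : Spec (S.residueField s))), fun h y => (key y).trans h⟩

variable (f : X ⟶ S) [IsProper f] [Smooth f]

/-- On a fibre which is a curve, the genus is one minus the Euler characteristic. -/
theorem isCurveFibre_iff (g : ℕ) (s : S) :
    IsCurveFibre f g s ↔ (GeometricallyConnected (f.fiberToSpecResidueField s) ∧
      topologicalKrullDim ↥(f.fiber s) = 1 ∧
      EulerConst10.fibEuler f (Coh.structureModule X) s = 1 - (g : ℤ)) := by
  refine and_congr_right fun hgc => and_congr_right fun hd => ?_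
  letI : (f.fiber s).Over (Spec (S.residueField s)) := ⟨f.fiberToSpecResidueField s⟩
  letI : (f.fiber s).Over (Spec (CommRingCat.of (S.residueField s))) := ⟨f.fiberToSpecResidueField s⟩
  haveI : IsProper ((f.fiber s) ↘ Spec (CommRingCat.of (S.residueField s))) :=
    MorphismProperty.pullback_snd (P := @IsProper) f (S.fromSpecResidueField s) ‹IsProper f›
  haveI : Smooth ((f.fiber s) ↘ Spec (CommRingCat.of (S.residueField s))) :=
    MorphismProperty.pullback_snd (P := @Smooth) f (S.fromSpecResidueField s) ‹Smooth f›
  haveI : GeometricallyConnected ((f.fiber s) ↘ Spec (CommRingCat.of (S.residueField s))) := hgc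
  have h0 := h0_eq_one (S.residueField s) (C := f.fiber s)
  have he : EulerConst10.fibEuler f (Coh.structureModule X) s =
      Curv2.euler (S.residueField s) (f.fiber s) (Coh.structureModule (f.fiber s)) :=
    Euler.euler_of_iso (S.residueField s) (OX.pullUnitIso (f.fiberι s))
  haveI : (Coh.structureModule (f.fiber s)).IsQuasicoherent := WeakAss.isQuasicoherent_structureModule
  rw [he, Euler.euler_eq_sub (S.residueField s) hd.le, h0]
  show Curv2.genus (S.residueField s) (f.fiber s) = g ↔ (1 : ℤ) - (Curv2.genus (S.residueField s) (f.fiber s) : ℤ) = _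
  omega

theorem isConstructible_dim [IsAffine S] (d : WithBot ℕ∞) :
    Topology.IsConstructible {s : S | topologicalKrullDim ↥(f.fiber s) = d} := by
  obtain ⟨ι, _, W, hWa, hW, hcov⟩ := FibreDim6.exists_finite_cover f (isAffineOpen_top S)
  haveI : IsAffine (⊤ : S.Opens).toScheme := isAffineOpen_top S
  have h : ∀ i, FibreDim6.IsConstrFun
      (fun s : (⊤ : S.Opens).toScheme => topologicalKrullDim ↥((f.resLE ⊤ (W i) (hW i)).fiber s)) := fun i => by
    haveI : IsAffine (W i).toScheme := hWa i
    haveI : LocallyOfFinitePresentation (f.resLE ⊤ (W i) (hW i)) := by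
      rw [Scheme.Hom.resLE]; infer_instance
    exact FibreDim6.isConstrFun_dim_fiber_affine _
  have h' := ((FibreDim6.IsConstrFun.pi h).comp fun t => ⨆ i, t i).1 d
  have e : {s : S | topologicalKrullDim ↥(f.fiber s) = d} = (S.topIso.inv) ⁻¹'
      (((fun t => ⨆ i, t i) ∘ fun (s : (⊤ : S.Opens).toScheme) i =>
        topologicalKrullDim ↥((f.resLE ⊤ (W i) (hW i)).fiber s)) ⁻¹' {d}) := by
    ext s
    show _ ↔ (⨆ i, topologicalKrullDim ↥((f.resLE ⊤ (W i) (hW i)).fiber (S.topIso.inv s))) = d
    rw [← FibreDim6.dim_fiber_eq_iSup f ⊤ W hW hcov, ← Scheme.Hom.comp_apply, show S.topIso.inv ≫ (⊤ : S.Opens).ι = 𝟙 S from S.topIso.inv_hom_id]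
    exact Iff.rfl
  rw [e]
  exact (S.topIso.inv).isConstructible_preimage h'

theorem isConstructible_curveFibre [IsAffine S] [IsLocallyNoetherian S] (g : ℕ) :
    Topology.IsConstructible {s : S | IsCurveFibre f g s} := by
  haveI : CompactSpace S := isCompact_univ_iff.mp (isAffineOpen_top S).isCompact
  haveI : IsNoetherian S := {}
  have h1 : Topology.IsConstructible {s : S | GeometricallyConnected (f.fiberToSpecResidueField s)} := by
    have e : {s : S | GeometricallyConnected (f.fiberToSpecResidueField s)} =
        {s : S | Prod.snd (GeomComp6.geomCount f s) = (1 : ℕ∞)} := by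
      ext s
      exact geometricallyConnected_fiber_iff_count f s
    rw [e]
    exact GeomComp6.isConstructible_geomCount_noetherian f Prod.snd 1
  have h3 : IsOpen {s : S | EulerConst10.fibEuler f (Coh.structureModule X) s = 1 - (g : ℤ)} := by
    refine isOpen_iff_forall_mem_open.2 fun s hs => ?_
    obtain ⟨U, hsU, hU⟩ := EulerConst10.exists_nhd_euler_eq f (Coh.structureModule X) (isFP_structure X)
      (Seesaw26.isFlatOver_structure f) s
    exact ⟨U, fun t ht => (hU t ht).trans hs, U.2, hsU⟩
  have h3' : Topology.IsConstructible {s : S | EulerConst10.fibEuler f (Coh.structureModule X) s = 1 - (g : ℤ)} :=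
    (TopologicalSpace.NoetherianSpace.isCompact _).isConstructible h3
  have e : {s : S | IsCurveFibre f g s} = {s : S | GeometricallyConnected (f.fiberToSpecResidueField s)} ∩
      ({s : S | topologicalKrullDim ↥(f.fiber s) = 1} ∩
        {s : S | EulerConst10.fibEuler f (Coh.structureModule X) s = 1 - (g : ℤ)}) := by
    ext s
    exact isCurveFibre_iff f g s
  rw [e]
  exact h1.inter ((isConstructible_dim f 1).inter h3')

/-- The property is invariant under base change. -/
theorem isCurveFibre_baseChange {X' S' : Scheme.{u}} {u' : S' ⟶ S} {f' : X' ⟶ S'} {v : X' ⟶ X}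
    [IsProper f'] [Smooth f'] (h : IsPullback v f' f u') (g : ℕ) (s' : S') :
    IsCurveFibre f' g s' ↔ IsCurveFibre f g (u' s') := by
  rw [isCurveFibre_iff, isCurveFibre_iff, FibreBC.geometricallyConnected_fiber_iff h,
    FibreBC.topologicalKrullDim_fiber h]
  haveI : (Coh.structureModule X).IsQuasicoherent := WeakAss.isQuasicoherent_structureModule
  rw [← EulerConst10.fibEuler_baseChange h (Coh.structureModule X) s',
    EulerConst10.fibEuler_congr f' (OX.pullUnitIso v) s']

end GrothLib.CurveModel9
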