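import Groth.Agent.Lib.CurveModel9.Locus
import Groth.Agent.Lib.LimDescend.Property
import Groth.Agent.Lib.LimDescend.FgSub
import Groth.Agent.Lib.LimSmooth.Affine
import Groth.Agent.Lib.ConsLim.PairInst
import Groth.Agent.Lib.Approx6.Stage

/-!
# A model of finite type over the integers of a smooth proper family of curves
-/

set_option autoImplicit false
set_option linter.all false
set_option backward.isDefEq.respectTransparency false

universe u

open CategoryTheory CategoryTheory.Limits AlgebraicGeometry TopologicalSpace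

noncomputable section

namespace GrothLib.CurveModel9

open GrothLib.LimDescend

theorem exists_model_Spec (A : Type u) [CommRing A] {X : Scheme.{u}} (f : X ⟶ (fgCone A).pt) [IsProper f] [Smooth f]
    (g : ℕ) (hg : ∀ s, IsCurveFibre f g s) :
    ∃ (T : Type u) (_ : CommRing T) (φ : T →+* A) (X₀ : Scheme.{u}) (f₀ : X₀ ⟶ Spec (CommRingCat.of T))
      (v : X ⟶ X₀), Algebra.FiniteType ℤ T ∧ Function.Injective φ ∧
      IsPullback v f f₀ (Spec.map (CommRingCat.ofHom φ)) ∧ IsProper f₀ ∧ Smooth f₀ ∧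
      ∀ s, IsCurveFibre f₀ g s := by
  haveI : LocallyOfFinitePresentation f := inferInstance
  haveI : QuasiSeparated f := inferInstance
  obtain ⟨i, M, hMs⟩ := exists_model_property (fgDiagram A) (fgCone A) (isLimitFgCone A) @Smooth
    GrothLib.LimSmooth.smooth_comp_openImmersion GrothLib.LimSmooth.affineCase_smooth f ‹Smooth f›
  haveI : CompactSpace M.obj := QuasiCompact.compactSpace_of_compactSpace M.hom
  haveI : QuasiSeparatedSpace M.obj := quasiSeparatedSpace_of_quasiSeparated M.hom
  obtain ⟨j, hj⟩ := GrothLib.ConsLim.descends_isProper (fgDiagram A) (isLimitFgCone A) (i₀ := i) M.hom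
    (𝟙 ((fgDiagram A).obj i))
    (IsPullback.of_id_fst.flip : IsPullback ((fgCone A).π.app i) (𝟙 (fgCone A).pt) (𝟙 _) ((fgCone A).π.app i))
    M.isPullback ‹IsProper f›
  have hMp : IsProper (M.map (fgDiagram A) (fgCone A) j.hom).hom :=
    GrothLib.LimSmooth.snd_of_mapNat_id @IsProper (fgDiagram A) M.hom j hj
  let M' := M.map (fgDiagram A) (fgCone A) j.hom
  haveI : IsProper M'.hom := hMp
  haveI : Smooth M'.hom := MorphismProperty.pullback_snd (P := @Smooth) M.hom _ hMs
  let R := j.left.unop.1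
  haveI : Algebra.FiniteType ℤ R := R.fg_iff_finiteType.mp j.left.unop.2
  haveI : IsNoetherianRing R := Algebra.FiniteType.isNoetherianRing ℤ R
  haveI : IsLocallyNoetherian ((fgDiagram A).obj j.left) :=
    inferInstanceAs (IsLocallyNoetherian (Spec (CommRingCat.of R)))
  have hE := (isConstructible_curveFibre M'.hom g).compl
  have hav : ∀ p : PrimeSpectrum A,
      PrimeSpectrum.comap (algebraMap R A) p ∉ ({s : PrimeSpectrum R | IsCurveFibre M'.hom g s})ᶜ := fun p => by
    rw [Set.mem_compl_iff, not_not]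
    exact (isCurveFibre_baseChange M'.hom M'.isPullback g p).1 (hg p)
  obtain ⟨T, hT, hTav⟩ := GrothLib.Approx6.exists_stage_avoid (R := R) (A := A)
    (E := ({s : PrimeSpectrum R | IsCurveFibre M'.hom g s})ᶜ) hE hav
  haveI : Algebra.FiniteType R T := T.fg_iff_finiteType.mp hT
  haveI hTZ : Algebra.FiniteType ℤ T := Algebra.FiniteType.trans (R := ℤ) (S := R) ‹_› ‹_›
  let w : Spec (CommRingCat.of T) ⟶ (fgDiagram A).obj j.left := Spec.map (CommRingCat.ofHom (algebraMap R T))
  let u : Spec (CommRingCat.of A) ⟶ Spec (CommRingCat.of T) := Spec.map (CommRingCat.ofHom T.val.toRingHom)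
  have hu : u ≫ w = (fgCone A).π.app j.left := by
    show Spec.map _ ≫ Spec.map _ = Spec.map _
    rw [← Spec.map_comp]
    rfl
  refine ⟨T, inferInstance, T.val.toRingHom, pullback M'.hom w, pullback.snd M'.hom w,
    pullback.lift M'.proj (f ≫ u) (by rw [Category.assoc, M'.isPullback.w]; exact congrArg (f ≫ ·) hu.symm),
    hTZ, Subtype.val_injective, ?_, MorphismProperty.pullback_snd (P := @IsProper) _ _ hMp,
    MorphismProperty.pullback_snd (P := @Smooth) _ _ ‹Smooth M'.hom›, fun s => ?_⟩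
  · refine IsPullback.of_right ?_ (pullback.lift_snd _ _ _) (IsPullback.of_hasPullback M'.hom w)
    rw [pullback.lift_fst]
    exact hu ▸ M'.isPullback
  · haveI : IsProper (pullback.snd M'.hom w) := MorphismProperty.pullback_snd (P := @IsProper) _ _ hMp
    haveI : Smooth (pullback.snd M'.hom w) :=
      MorphismProperty.pullback_snd (P := @Smooth) _ _ ‹Smooth M'.hom›
    refine (isCurveFibre_baseChange M'.hom (IsPullback.of_hasPullback M'.hom w) g s).2 ?_
    by_contra hns
    exact hTav s hns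

theorem exists_model_curve {X S : Scheme.{u}} (f : X ⟶ S) [IsAffine S] [IsProper f] [Smooth f]
    [GeometricallyConnected f] (hdim : ∀ s : S, topologicalKrullDim ↥(f.fiber s) = 1) (g : ℕ)
    (hgen : ∀ s : S, letI : (f.fiber s).Over (Spec (S.residueField s)) := ⟨f.fiberToSpecResidueField s⟩
      Curv2.genus (S.residueField s) (f.fiber s) = g) :
    ∃ (S₀ X₀ : Scheme.{u}) (f₀ : X₀ ⟶ S₀) (u : S ⟶ S₀) (v : X ⟶ X₀),
      IsAffine S₀ ∧ Algebra.FiniteType ℤ Γ(S₀, ⊤) ∧ Function.Injective (u.appTop).hom ∧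
      IsPullback v f f₀ u ∧ IsProper f₀ ∧ Smooth f₀ ∧ GeometricallyConnected f₀ ∧
      ∀ s : S₀, IsCurveFibre f₀ g s := by
  let f₁ : X ⟶ (fgCone Γ(S, ⊤)).pt := f ≫ S.isoSpec.hom
  haveI : IsProper f₁ := inferInstanceAs (IsProper (f ≫ S.isoSpec.hom))
  haveI : Smooth f₁ := inferInstanceAs (Smooth (f ≫ S.isoSpec.hom))
  have hsq : IsPullback (𝟙 X) f f₁ S.isoSpec.hom := IsPullback.of_horiz_isIso ⟨Category.id_comp f₁⟩
  have hg1 : ∀ s, IsCurveFibre f₁ g s := fun s => by
    obtain ⟨t, rfl⟩ := S.isoSpec.hom.surjective s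
    exact (isCurveFibre_baseChange f₁ hsq g t).1
      ⟨MorphismProperty.pullback_snd (P := @GeometricallyConnected) f _ ‹GeometricallyConnected f›, hdim t, hgen t⟩
  obtain ⟨T, _, φ, X₀, f₀, v, hT, hφ, hpb, hp, hs, hfib⟩ := exists_model_Spec Γ(S, ⊤) f₁ g hg1
  haveI := hp
  refine ⟨Spec (CommRingCat.of T), X₀, f₀, S.isoSpec.hom ≫ Spec.map (CommRingCat.ofHom φ), v, inferInstance,
    GrothLib.Approx6.finiteType_top, ?_, ?_, hp, hs,
    (GeometricallyConnected.iff_geometricallyConnected_fiber f₀).2 fun s => (hfib s).1, hfib⟩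
  · rw [Scheme.Hom.comp_appTop, CommRingCat.hom_comp]
    refine (ConcreteCategory.bijective_of_isIso S.isoSpec.hom.appTop).1.comp ?_
    have h := Scheme.ΓSpecIso_naturality (CommRingCat.ofHom φ)
    intro a b hab
    apply (ConcreteCategory.bijective_of_isIso (Scheme.ΓSpecIso (CommRingCat.of T)).hom).1
    apply hφ
    have := congrArg (Scheme.ΓSpecIso (CommRingCat.of Γ(S, ⊤))).hom hab
    exact (congrArg (fun e => e.hom a) h).symm.trans (this.trans (congrArg (fun e => e.hom b) h))
  · exact (Category.id_comp v) ▸ hsq.paste_horiz hpb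

end GrothLib.CurveModel9
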